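import Cfsg.Agent.J4C.V.Cert
import Cfsg.Agent.CGT.Out

set_option autoImplicit false
set_option Elab.async false
set_option maxRecDepth 100000
set_option linter.all false

namespace Cfsg.Agent.J4C.O
open Cfsg.Agent.CGT

noncomputable def cl_l0 : Level := ⟨2, [[0], [2], [4], [6], [8], [10], [12], [14], [16], [18], [20]], [0, 1, 2, 3, 4, 0, 7, 9, 10, 4, 1, 0, 6, 8, 0], 0xffffffffffffffffffffffffffffffffffffffffffffffffffffffffffffffffffffffffffffffffffffffffffffffffffffffffffffffffffffffffffffffffffffffffffffffffffffffffffffffffffffffffffffffffffffffffffffffffffffffffffffffffffffffffffffffffffffffffffffffffffffffffffffffffffffffffffffffffffffffffffffffffffffffffffffffffffffffffffffffffffffffffffffffffffffffffffffffffffffffffffffffffffffffffffffffffffffffffffffffffffffffffffffffffffffffffffffffffffffffffffffffffffffffffffffffffffffffffffffffffffffffffffffffffffffffffffffffff,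 2048⟩
noncomputable def cl_l1 : Level := ⟨1595, [[7, 15, 0, 2, 4, 8, 18, 8, 8], [20, 8, 15, 18, 9, 7, 0, 7, 10, 4]], [0, 1, 0, 1, 0, 1, 0, 1, 0, 1, 0, 1, 0, 1, 0, 1, 0, 1, 0, 0], 0xf7bffffdfedfbfffbf2bdfbfffbff7fedffffbeffffbfd7ffebffff77ffdeffffffdbdd4bfff2bbdfebffffddff7bffffe7ffffdf7efbfffe8fe7efffeffffdbefff7ffbfff7fdefffbdfeffdbffff7fff7efdffbdffd4fdf7ffbfdfffeffdfbfb7ffffddffebfffdffff7ef4ddfdffb7f17ef7fff7ffdfbfe7ffffbdffbfbb2feff7fefe8fefef7ffbdfbff7effffdfffe7ef8e7effffef7ffffdef177f7ffbdffbfffdfe7fbffff7ffef7fffeffdfbbffff7effffddffbfedffffb7ffbfbb27ffd177ffebf7ffffdd47ffdfffdeffbfbff7fefffdffdfbeffdfffb7ffbfbb2ffef7efff7ffffdbbffdfffbdffbfbb2fd7ffffbeffbfbb2fffbdbb2fbb2b220, 1771⟩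
noncomputable def cl_l2 : Level := ⟨567, [[6, 20, 15, 12, 21, 19, 0, 16, 13, 6], [5, 9, 0, 4, 15, 8, 18, 7, 13, 7], [10, 15, 4, 8, 0, 14, 17, 11, 4, 2]], [0, 1, 2, 0, 1, 2, 0, 1, 2, 0, 1, 2, 0, 1, 1], 0xf70f7ff0be0bbebfb70bdebffe0fe0f0d7feebefdfbbfd7770b7f7b777fdeedfe7fdbdd0bfbd0bbd70b7f7edd7f7be7f7077f7ddf0ef0ffe007000f770e7f7dbebfd7dd0dfb7fdedefbdfebddbf77e7fdf7efdbd00df00fdf0bf0f0bdfeefdbbfb0fbff0defeb7efd7fed7ef0d0fdff07707ee7fdf7bfd7b7077f7bbd7fbebb0defe7befe0befed7bfbdfbe77efd7edffe00ef007efebdef77feddef070f7ff0df7bfdedf07f0ff7f0ef0f0edfebfdebb7feb7efbfdd0bbb70d7f7eb77fbbbb07f7d077df0bf0ffbf0d00ffd7fed077bbbfe77efdfd7fdebefddfebb7bfb7bb07e077e7fe07efedbbf7dfbebdefb7bb0fd0fdff0eefbbbb0e7fbdbb0fb00b000, 1440⟩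
noncomputable def cl_l3 : Level := ⟨1183, [[13, 19, 11, 19, 10, 12], [17, 10, 6, 18, 16, 10, 15], [19, 8, 2, 15, 20, 2, 16, 6], [15, 19, 5, 0, 6, 11, 17, 20, 13, 6]], [], 0x8000000000000000000000000000000000000000000000000000000000000000000000000005440000000000000000000000000001000001001000000000000000000000008001000020100000000000000000040000a020000002000000000000000000000000000000000a200000000400080000000000000000000040008000000100000000000000000800000000000002000000000000000004000800000000000008000000000000000000000000000000000200001000000000000000000000000000000002a000000000000000000000000020010000000000000000000010000000000000000002000044500000000000000000000000004050880, 48⟩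
noncomputable def cl_l4 : Level := ⟨871, [[16, 4, 8, 16, 14, 16, 6, 2]], [], 0x1000000000000000000000000000000000000000000000000000000000000000000080000000000000000000000000000000000000000000000000000000000000000000000000000000000000000000000000000000000000000000000000000000000000000000000000000000000000000000000000000000000000000000000000000000000000000000000000, 2⟩
noncomputable def cl_ls : List Level := [cl_l0, cl_l1, cl_l2, cl_l3, cl_l4]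
noncomputable def cl_S : Srch := ⟨11, V.m_ts, (chainBase [] V.c_ls), [2, 20], [2, 20], []⟩
noncomputable def cl_lk : List ℕ := [3, 1596, 568, 1184]
noncomputable def cl_tl : List Level := [cl_l1, cl_l2, cl_l3, cl_l4]
noncomputable def cl_R0 : ℕ := 0x1000000000000208001000000800210000090001000000020000000000000400000008001000000000000400000400408800000000400000001000003040000000004040000200000000000008080000010000000002002000042200800010000000000001000000000000001000000402000000000000000140000000000010002022008400822100000100000480000000000480002220800000080000004000000001000000000400068000000100000000010000000c400000000000200100000000000100400800400000004400000000000010002000000010000002001000000000031800000008000000000000000028028400000100000000000005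
theorem cl_l0_ok : (ptsOK 11 [] && (wordsIn [0, 2, 4, 6, 8, 10, 12, 14, 16, 18, 20] cl_l0.S && cl_l0.ok 11 V.m_ns V.m_ts [])) = true := by decide +kernel
theorem cl_l1_ok : (ptsOK 11 [2] && (wordsIn [0, 2, 4, 6, 8, 10, 12, 14, 16, 18, 20] cl_l1.S && cl_l1.ok 11 V.m_ns V.m_ts [2])) = true := by decide +kernel
theorem cl_l2_ok : (ptsOK 11 [1595, 2] && (wordsIn [0, 2, 4, 6, 8, 10, 12, 14, 16, 18, 20] cl_l2.S && cl_l2.ok 11 V.m_ns V.m_ts [1595, 2])) = true := by decide +kernel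
theorem cl_l3_ok : cl_l3.okT 11 V.m_ts [0, 2, 4, 6, 8, 10, 12, 14, 16, 18, 20] [567, 1595, 2] (.cons [0] (.cons [2] (.cons [6] .nil (.cons [7] .nil .nil)) (.cons [4] (.cons [6] .nil (.cons [7] .nil .nil)) (.cons [6] (.cons [0] .nil .nil) (.cons [7] (.cons [0] .nil (.cons [3] .nil (.cons [5] .nil .nil))) .nil)))) (.cons [2] (.cons [4] (.cons [6] .nil (.cons [7] .nil .nil)) (.cons [5] (.cons [6] .nil (.cons [7] .nil .nil)) (.cons [6] .nil (.cons [7] (.cons [5] .nil (.cons [3] .nil .nil)) .nil)))) (.cons [3] (.cons [3] (.cons [7] .nil .nil) (.cons [5] (.cons [6] .nil (.cons [7] .nil .nil)) (.cons [6] (.cons [4] .nil .nil) (.cons [7] (.cons [5] .nil .nil) .nil)))) (.cons [4] (.cons [6] .nil (.cons [7] .nil .nil)) (.cons [5] (.cons [6] .nil (.cons [7] .nil .nil)) (.cons [6] (.cons [2] .nil (.cons [4] .nil .nil)) (.cons [7] (.cons [5] .nil (.cons [0] .nil (.cons [3] .nil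 .nil))) .nil))))))) = true := by decide +kernel
theorem cl_l4_ok : cl_l4.okT 11 V.m_ts [0, 2, 4, 6, 8, 10, 12, 14, 16, 18, 20] [1183, 567, 1595, 2] (.cons [0] .nil .nil) = true := by decide +kernel
theorem cl_aux : cl_S.auxB [0, 2, 4, 6, 8, 10, 12, 14, 16, 18, 20] cl_ls [] (0 :: cl_lk) = true := by decide +kernel
theorem cl_cov : Nat.beq (Nat.land cl_l0.O (Srch.cover V.m_ns (invW cl_S.u') cl_R0 20)) cl_l0.O = true := by decide +kernel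
theorem cl_r0 : cl_S.run (.cons [] (.cons [] (.cons [] (.cons [] (.cons [] (.leaf 2000) .nil) .nil) .nil) .nil) (.cons [0] (.cons [1, 3, 0, 0, 3] (.cons [0, 4, 4, 2, 1] .nil .nil) .nil) (.cons [2] (.cons [0, 2, 2, 2, 1, 3, 1] .nil .nil) (.cons [4] (.cons [2, 2, 0, 2, 0] (.cons [5, 0, 2, 2] .nil .nil) .nil) (.cons [5] (.cons [2, 0, 0, 3, 3, 3] (.cons [4, 3, 3, 1] .nil .nil) .nil) (.cons [6] (.cons [3, 0, 2, 2, 1, 1, 2] (.cons [1, 4, 1, 1, 1, 3] .nil .nil) .nil) (.cons [7] (.cons [1, 1, 1, 2, 1, 2, 0] (.cons [3, 1, 5, 0, 3] .nil .nil) .nil) (.cons [0, 18] (.cons [0, 2, 1, 1, 3, 0] (.cons [2, 4, 3, 0, 5, 2] .nil .nil) .nil) (.cons [5, 18] (.cons [2, 0, 3, 3, 0, 0] .nil .nil) (.cons [13, 18] .nil (.cons [20, 18] (.cons [3, 0, 2, 2, 0] (.cons [2, 1, 5, 0] .nil .nil) .nil) (.cons [0, 9] (.cons [3, 3, 1, 2, 1] (.cons [5, 5, 3, 0, 0] .nil .nil) .nil) (.cons [2, 9] (.cons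 [2, 1, 2, 1, 3, 3, 0] (.cons [4, 2, 0, 4, 3] (.cons [3, 7, 0] .nil .nil) .nil) .nil) (.cons [0, 12] (.cons [2, 1, 1, 1, 2, 1, 3, 0] (.cons [2, 0, 3, 4] .nil .nil) .nil) (.cons [0, 4] (.cons [2, 0, 2, 1, 3, 0] (.cons [2, 5, 0, 0, 5] .nil .nil) .nil) (.cons [11, 4] .nil (.cons [0, 8] (.cons [1, 3, 3, 1] (.cons [3, 4, 1, 1] .nil .nil) .nil) (.cons [0, 19] (.cons [0, 3, 3, 1, 3] (.cons [1, 5, 2, 5] .nil .nil) .nil) (.cons [20, 19] (.cons [0, 3, 3, 3, 3, 3] (.cons [0, 4, 2, 1] .nil .nil) .nil) (.cons [2, 0] (.cons [3, 1, 1, 1, 2, 2] (.cons [5, 2, 5, 1, 1] .nil .nil) .nil) (.cons [5, 0] (.cons [1, 1, 1, 1, 1, 3, 1, 1] (.cons [5, 0, 2, 5, 2] .nil .nil) .nil) (.cons [6, 0] (.cons [2, 1, 2, 1, 1] (.cons [0, 5, 0, 4, 0] .nil .nil) .nil) (.cons [7, 0] .nil (.cons [8, 0] .nil (.cons [9, 0] (.cons [1, 2, 1, 3, 1] .nil .nil) (.cons [10, 0] (.cons [3, 1, 3, 0, 0, 2] (.cons [5,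 1, 2, 1] .nil .nil) .nil) (.cons [11, 0] (.cons [1, 3, 0, 0, 2, 0, 3] (.cons [1, 4, 3, 0, 2] .nil .nil) .nil) (.cons [12, 0] (.cons [3, 0, 0, 3, 3, 0] (.cons [0, 2, 2] .nil .nil) .nil) (.cons [13, 0] (.cons [0, 3] .nil .nil) (.cons [14, 0] (.cons [3, 1, 3, 1, 2, 0, 3] (.cons [2, 4, 0] .nil .nil) .nil) (.cons [15, 0] (.cons [2, 0, 2, 2, 0] (.cons [2, 0, 5, 3] .nil .nil) .nil) (.cons [16, 0] (.cons [1, 3, 1, 1, 1] (.cons [4, 2, 1, 5, 0] .nil .nil) .nil) (.cons [17, 0] (.cons [1, 3, 0, 2, 0, 2, 0] (.cons [0, 5, 0, 4, 0] .nil .nil) .nil) (.cons [18, 0] (.cons [1, 1, 2, 0, 0, 2] (.cons [3, 3, 4, 2, 5] .nil .nil) .nil) (.cons [19, 0] (.cons [2, 2] (.cons [3, 1, 4, 0] .nil .nil) .nil) (.cons [0, 2] (.cons [1, 3, 0, 2, 2] (.cons [0, 3, 3, 5, 1, 2] .nil .nil) .nil) (.cons [8, 20] (.cons [0, 2, 0, 2, 2, 1, 1] (.cons [3, 5, 3, 5, 1] .nil .nil) .nil) (.cons [0, 15] (.cons [3,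 3, 1, 2, 1, 2] .nil .nil) (.cons [0, 5] (.cons [1, 3, 0, 3] (.cons [3, 1, 1, 1, 3] .nil .nil) .nil) (.cons [0, 12, 18] (.cons [1, 2, 0, 2, 1, 3, 0] (.cons [3, 4, 2, 5] .nil .nil) .nil) (.cons [0, 14, 5] .nil (.cons [0, 2, 19] (.cons [2, 0, 3, 3] (.cons [4, 4, 2, 1, 3] .nil .nil) .nil) (.cons [0, 5, 0] (.cons [2, 0, 3, 1, 2, 0, 3] (.cons [4, 0, 5, 0] .nil .nil) .nil) (.cons [6, 5, 0] (.cons [1, 1, 1, 2, 0] (.cons [0, 4, 0, 0] .nil .nil) .nil) (.cons [9, 5, 0] .nil (.cons [11, 5, 0] (.cons [3, 0, 0, 0, 2, 0] (.cons [3, 4, 2, 2, 4] .nil .nil) .nil) (.cons [12, 5, 0] (.cons [3, 3, 0, 0, 0, 3] .nil .nil) (.cons [13, 5, 0] (.cons [1, 1, 1, 2, 0, 2] (.cons [4, 2, 4] .nil .nil) .nil) (.cons [14, 5, 0] .nil (.cons [15, 5, 0] (.cons [0, 0, 0, 2, 0, 0, 2] .nil .nil) (.cons [16, 5, 0] (.cons [1, 2, 0, 2] (.cons [5, 2, 1, 4, 4] .nil .nil) .nil) (.cons [17, 5, 0] .nil (.cons [18,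 5, 0] (.cons [1, 2, 0, 0, 3, 0, 0, 3] (.cons [1, 2, 0] .nil .nil) .nil) (.cons [19, 5, 0] (.cons [1, 1, 1, 3, 3, 3] (.cons [5, 5, 1, 3] .nil .nil) .nil) (.cons [0, 6, 20] .nil (.cons [0, 2, 18] (.cons [0, 0, 0, 3, 0, 3] (.cons [2, 2, 4, 0, 5] .nil .nil) .nil) (.cons [0, 15, 5] (.cons [0, 2, 1, 3, 1, 1, 1, 2] (.cons [5, 5, 3, 4, 1] .nil .nil) .nil) (.cons [2, 0, 19] (.cons [0, 0, 0, 3, 1] (.cons [3, 3, 5, 3] .nil .nil) .nil) (.cons [5, 0, 19] .nil (.cons [6, 0, 19] (.cons [2, 2, 1, 2, 0, 0, 2] (.cons [1, 3, 4, 0, 2] .nil .nil) .nil) (.cons [7, 0, 19] (.cons [2, 1, 3, 3, 3, 3] .nil .nil) (.cons [9, 0, 19] (.cons [0, 3, 1, 3] (.cons [4, 2, 2, 5, 1, 5] .nil .nil) .nil) (.cons [11, 0, 19] (.cons [2, 0, 2, 2, 2, 1] (.cons [3, 0, 0, 3, 3] .nil .nil) .nil) (.cons [13, 0, 19] (.cons [3, 0, 0, 0, 2, 2, 0] (.cons [5, 3, 4, 0] .nil .nil) .nil) (.cons [14, 0, 19] (.cons [3, 3,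 1, 2, 0] .nil .nil) (.cons [15, 0, 19] .nil (.cons [17, 0, 19] .nil (.cons [8, 0, 8] (.cons [3, 1, 2, 2, 2] (.cons [5, 2, 4, 1, 1] .nil .nil) .nil) (.cons [10, 0, 8] (.cons [0, 2, 1, 3, 1, 1, 1] .nil .nil) (.cons [12, 0, 8] (.cons [2, 2, 1, 2, 0, 0] .nil .nil) (.cons [15, 0, 8] (.cons [1, 2, 1, 2] (.cons [4, 0, 3, 1, 4] .nil .nil) .nil) (.cons [19, 0, 8] (.cons [0, 0, 0, 2] .nil .nil) (.cons [5, 17, 0] (.cons [2, 1, 1, 2, 0, 0, 2] (.cons [5, 0, 5, 1] .nil .nil) .nil) (.cons [6, 17, 0] (.cons [3, 1, 3, 0, 3, 0] (.cons [0, 0, 3, 5] .nil .nil) .nil) (.cons [8, 17, 0] (.cons [3, 3, 1, 2, 2, 1, 3] (.cons [5, 3, 5, 5, 3] (.cons [7, 2] .nil .nil) .nil) .nil) (.cons [9, 17, 0] (.cons [1, 1, 2, 1, 3, 1, 1] (.cons [4, 1, 1, 1, 5] .nil .nil) .nil) (.cons [0, 18, 0] (.cons [2, 0, 2, 2, 1, 2] (.cons [0, 5, 5, 0] .nil .nil) .nil) (.cons [2, 18, 0] (.cons [2, 0, 0, 0, 2] (.cons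 [3, 1, 1, 4, 3] .nil .nil) .nil) (.cons [4, 18, 0] (.cons [1, 2, 2, 2, 2, 1, 1] (.cons [5, 1, 3, 0, 4] .nil .nil) .nil) (.cons [7, 18, 0] (.cons [1, 3, 0, 3, 0, 0] (.cons [2, 4, 0, 5, 1] .nil .nil) .nil) (.cons [10, 18, 0] .nil (.cons [12, 18, 0] (.cons [3, 3, 0, 0, 0, 3, 1] (.cons [5, 1, 3, 4] .nil .nil) .nil) (.cons [13, 18, 0] (.cons [3, 0, 0, 3, 0, 0, 2, 1] (.cons [1, 2, 4] .nil .nil) .nil) (.cons [8, 4, 0] (.cons [2, 1, 2, 2, 2, 0, 3] .nil .nil) (.cons [11, 4, 0] (.cons [3, 0, 2, 1, 1, 2] (.cons [0, 5, 0, 3] (.cons [2] .nil .nil) .nil) .nil) (.cons [17, 4, 0] (.cons [1, 2, 1, 3, 1, 1, 2] (.cons [0, 4, 1] .nil .nil) .nil) (.cons [7, 19, 0] (.cons [2, 2, 1, 3, 0, 3, 0] .nil .nil) (.cons [2, 13, 0] (.cons [0, 0, 2, 0, 2, 0, 3] (.cons [3, 5, 1, 3, 4] .nil .nil) .nil) (.cons [9, 13, 0] (.cons [0, 3, 0, 3, 0] .nil .nil) (.cons [16, 13, 0] (.cons [1, 1, 1, 3, 1, 3]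 (.cons [3, 1, 1, 1, 5] .nil .nil) .nil) (.cons [0, 7, 5] (.cons [0, 2, 1, 1, 2, 0, 2] (.cons [1, 4, 1, 2] .nil .nil) .nil) (.cons [4, 0, 4] (.cons [3, 0, 3, 1, 3] (.cons [0, 5, 5, 2] .nil .nil) .nil) (.cons [10, 0, 4] (.cons [3, 1, 3, 0, 2, 2, 1] (.cons [2, 5, 1, 2, 2] .nil .nil) .nil) (.cons [11, 12, 0] .nil (.cons [0, 5, 7] (.cons [1, 2, 0, 0, 2, 1, 1, 1] (.cons [5, 3, 4, 0] .nil .nil) .nil) (.cons [8, 0, 18] (.cons [3, 1, 3, 0, 2] (.cons [5, 5, 2, 1] .nil .nil) .nil) (.cons [19, 10, 0] (.cons [0, 3, 1, 3, 0, 0, 2] (.cons [0, 2, 1, 4, 3] .nil .nil) .nil) (.cons [19, 2, 0] (.cons [0, 0, 2, 0, 3, 0] .nil .nil) (.cons [14, 16, 0] (.cons [2, 1, 2, 0, 3, 1, 3] .nil .nil) (.cons [0, 13, 19, 0, 8] .nil .nil)))))))))))))))))))))))))))))))))))))))))))))))))))))))))))))))))))))))))))))))))))))))))))))))))))) (⟨cl_l0.b, cl_l0.S, [], cl_R0, 0⟩ :: cl_tl) (0 :: cl_lk) Pd.nil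 0 = true := by decide +kernel
theorem cl_sound {G : Type*} [Group G] {φ : G →* Equiv.Perm ℕ} {γ : ℕ → G}
    (M : Model φ γ 11 V.m_ns V.m_ts) : ChainSound φ (gp γ [0, 2, 4, 6, 8, 10, 12, 14, 16, 18, 20]) 11 [] cl_ls :=
  ⟨Level.ok_sound' M cl_l0_ok,
   Level.ok_sound' M cl_l1_ok,
   Level.ok_sound' M cl_l2_ok,
   Level.okT_sound M cl_l3_ok,
   Level.okT_sound M cl_l4_ok, trivial⟩
theorem cl_cent {G : Type*} [Group G] {φ : G →* Equiv.Perm ℕ} {γ : ℕ → G}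
    (C : Cert φ γ 11 V.m_ns V.m_ts [0, 2, 4, 6, 8, 10, 12, 14, 16, 18, 20] V.c_ls) : Cent γ cl_S.u cl_S.Cl 20 :=
  have X := (C.rechain (cl_sound C.M) (by decide +kernel)).exact
  have A := Srch.auxB_sound (S := cl_S) C.M (K := ⊤) le_top rfl cl_aux
  have F := fun {tr : Tr} {R : ℕ} => Srch.found_of_run (S := cl_S) C.M C.base (by decide +kernel) X A (tr := tr) (R := R)
  Cent.of_found (S := cl_S) C.M X rfl (F cl_r0) cl_cov

end Cfsg.Agent.J4C.O
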