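import Cfsg.Agent.J4C.O.Facts
import Cfsg.Agent.J4C.O.Cen
import Cfsg.Agent.CGT.OutAbs

set_option autoImplicit false
set_option Elab.async false
set_option maxRecDepth 100000
set_option linter.all false

namespace Cfsg.Agent.J4C.O
open Cfsg.Agent.CGT Cfsg.Agent.PM
open Matrix hiding ext

theorem centL {k : K2} (h1 : Commute k (γ2 1)) (h2 : Commute k (γ2 10)) : k = 1 := by
  obtain ⟨φ, C⟩ := V.cert
  have e1 : ev (ext γ2) [2] = γ2 1 := (ev_singleton _ _).trans (ext_two_mul γ2 1)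
  obtain ⟨i, hi, j, e⟩ := cl_cent C k (by
    show Commute k (ev (ext γ2) [2, 20])
    rw [ev_cons, ev_singleton]
    exact (ext_two_mul γ2 1 ▸ h1).mul_right (ext_two_mul γ2 10 ▸ h2))
  have e2 : k = ev (ext γ2) (pw [2, 20] i) := by rw [ev_pw]; exact e.trans (one_mul _)
  have h3 : (allLt 21 fun i => Nat.beq i 0 || !fixesB 11 V.m_ts (app (app (pw [2, 20] i) [2])
      (invW (app [2] (pw [2, 20] i)))) (chainBase [] V.c_ls)) = true := by decide +kernel
  have h4 := allLt_iff.1 h3 i (by omega)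
  rw [fixesB_complete C.M (by decide +kernel) (by
    rw [ev_app, ev_invW, ev_app, ev_app, ← e2, e1, h1.eq, mul_inv_cancel]; simp)] at h4
  rw [e2, Nat.eq_of_beq_eq_true (by simpa using h4 : Nat.beq i 0 = true)]
  rfl

theorem z2 (x : ZMod T.p) : x = 0 ∨ x = 1 := (by decide : ∀ x : ZMod 2, x = 0 ∨ x = 1) x

section
variable {r : Cfsg.Spor.J4 →* T.Mˣ} (hr : T.IsRep r δ' Bs)
include hr

theorem pr {a c : ℕ} {U : List ℕ} (h : T.sand Bs 1 [a] [] U [] [c] = true) :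
    T.rv a ⬝ᵥ T.cv U = dg T.B c 0 := by
  simpa using Par.pair_sound T_ok hr h

theorem p00 : T.rv 1 ⬝ᵥ T.cv U0 = 1 := (pr hr (c := 1) (by decide +kernel)).trans (by decide +kernel)
theorem p01 : T.rv 1 ⬝ᵥ T.cv U1 = 0 := (pr hr (c := 0) (by decide +kernel)).trans (by decide +kernel)
theorem p10 : T.rv 128 ⬝ᵥ T.cv U0 = 0 := (pr hr (c := 0) (by decide +kernel)).trans (by decide +kernel)
theorem p11 : T.rv 128 ⬝ᵥ T.cv U1 = 1 := (pr hr (c := 1) (by decide +kernel)).trans (by decide +kernel)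

theorem v_ne : T.cv U0 ≠ 0 := fun e => by
  have := p00 hr
  rw [e, dotProduct_zero] at this
  exact absurd this (by decide +kernel)

theorem t_v : (r (δ 2)).val *ᵥ T.cv U0 = T.cv U1 := by
  rw [← e3, Par.ev_coe]; exact Par.col_sound T_ok hr f_t

variable {ρ : K →* Cfsg.Spor.J4} (hρ : ∀ j, ρ (γ j) = wg δ W10 j) {j : K2 →* Cfsg.Spor.J4}
  (hj : ∀ i, j (γ2 i) = zt ρ γ (ev (ext (zt ρ γ (δ 2))) R.Ww) i)
include hρ hj

theorem rj (w : List ℕ) : (r (j (ev (ext γ2) w))).val = ev (fun a => (r (ext δ' a)).val) (xw w) := by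
  rw [e2 hρ hj, Par.ev_coe]; rfl

theorem stab_ge (m : K2) : (r (j m)).val *ᵥ T.cv U0 = T.cv U0 := by
  have hm : m ∈ gp γ2 [0, 2, 4, 6, 8, 10, 12, 14, 16, 18, 20] := gen_top2 ▸ Subgroup.mem_top m
  induction hm using Subgroup.closure_induction with
  | mem x hx =>
    obtain ⟨a, ha, rfl⟩ := hx
    rw [← ev_singleton (ext γ2), rj hr hρ hj]
    exact Par.col_sound T_ok hr (allL_iff.1 f_M a ha)
  | one => simp
  | mul x y _ _ h1 h2 => rw [map_mul, map_mul, Units.val_mul, ← mulVec_mulVec, h2, h1]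
  | inv x _ h1 =>
    conv_lhs => rw [← h1]
    rw [mulVec_mulVec, ← Units.val_mul, ← map_mul, ← map_mul, inv_mul_cancel]; simp

theorem sub (h : K) : ρ h ∈ j.range := by
  have : gp γ [0, 2, 4, 6, 8, 10, 12, 14, 16, 18] ≤ j.range.comap ρ :=
    gp_le fun a _ => ext_mem ⟨_, hj (a / 2 + 1)⟩
  exact this (gen_top ▸ Subgroup.mem_top h)

theorem stab_le (g : Cfsg.Spor.J4) (hg : (r g).val *ᵥ T.cv U0 = T.cv U0) : g ∈ j.range := by
  obtain ⟨φ, C⟩ := cert
  obtain ⟨d, hd, h, m, e⟩ := (core C hρ hj).2 g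
  have h1 := allL_iff.1 f_W d hd
  obtain ⟨n, hn⟩ := sub hr hρ hj h
  change j m = (ρ h * _)⁻¹ * g at e
  rw [← hn, eq_inv_mul_iff_mul_eq] at e
  simp only [Bool.or_eq_true, Bool.and_eq_true, Nat.beq_eq, Nat.ble_eq] at h1
  rcases h1 with rfl | ⟨⟨h1, h2⟩, h3⟩
  · rw [Dce.W_zero, mul_one, ← map_mul] at e
    exact ⟨_, e⟩
  · rw [Dce.W_nw _ _ h3] at e
    change _ * ev (ext (zt ρ γ (δ 2))) _ * _ = _ at e
    rw [e1 hρ] at e
    have h4 := Par.pair_sound T_ok hr h2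
    rw [mul_assoc] at e
    rw [← Par.ev_coe, ← stab_ge hr hρ hj m, mulVec_mulVec, ← Units.val_mul, ← map_mul,
      eq_inv_mul_of_mul_eq e, ← map_inv, map_mul, Units.val_mul, ← mulVec_mulVec,
      hg, stab_ge hr hρ hj, pr hr h1] at h4
    exact absurd h4 (by decide +kernel)

theorem rj_inj : Function.Injective (r.comp j) := by
  obtain ⟨φ, C⟩ := V.cert
  obtain ⟨ψ, D⟩ := cert
  obtain ⟨σ, hσ⟩ := sig2
  obtain ⟨π, hπ⟩ := V.proj
  have h := V.aff hπ hσ C
  have key : ∀ (s : List ℕ) (p : ℕ), (isK 12 m_ts (chainBase [] c_ls) (subz [] s) &&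
      Nat.beq (ap 11 (msk 11) V.m_ts s 0) p) = true →
      ev (ext γ2) s ∈ π.ker ∧ φ (ev (ext γ2) s) 0 = p := fun s p hs => by
    rw [Bool.and_eq_true, Nat.beq_eq, msk_eq, C.M.ap _ (by norm_num)] at hs
    exact ⟨V.mem_ker hπ hs.1, hs.2⟩
  refine h.injective C.base (fun b hb => ?_) (u := ev (ext γ) [0, 6]) ?_ fun v hv h1 h2 => ?_
  · have h1 : chainBase [] V.c_ls = bas.map Prod.fst := by decide +kernel
    obtain ⟨e, he, rfl⟩ := List.mem_map.1 (h1 ▸ hb)
    have h2 : (allL bas fun e => isK 12 m_ts (chainBase [] c_ls) (subz [] e.2) &&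
      Nat.beq (ap 11 (msk 11) V.m_ts e.2 0) e.1) = true := by decide +kernel
    exact ⟨_, key _ _ (allL_iff.1 h2 e he)⟩
  · rw [← ev_pw]; exact D.base _ trivial (fixesB_sound D.M (by decide +kernel) (by decide +kernel))
  · have h3 := C.fix_mem (d := 8) (S := [sh [0, 6]]) v (by
      rw [V.sig_ev hσ] at h1; simpa only [List.forall_mem_singleton] using h1)
    have h4 : fixM (8 + 3) V.m_ns [sh [0, 6]] = 2 ^ 0 + 2 ^ 499 + 2 ^ 636 + 2 ^ 911 := by decide +kernel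
    have h5 : (lt' (2 ^ 0 + 2 ^ 499 + 2 ^ 636 + 2 ^ 911) fun M => allLt 2048 fun p =>
      !Nat.testBit M p || memL p (0 :: mvs.map Prod.fst)) = true := by decide +kernel
    rw [h4, Finset.mem_filter, Finset.mem_range] at h3
    have h6 := allLt_iff.1 (lt'_eq _ _ ▸ h5) _ h3.1
    simp only [h3.2, Bool.not_true, Bool.false_or] at h6
    rcases List.mem_cons.1 (memL_sound h6) with e | e
    · exact h.inj hv π.ker.one_mem (by rw [e, map_one]; rfl)
    · obtain ⟨e, he, e'⟩ := List.mem_map.1 e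
      have h7 : (allL mvs fun e => isK 12 m_ts (chainBase [] c_ls) (subz [] e.2.1) &&
        Nat.beq (ap 11 (msk 11) V.m_ts e.2.1 0) e.1) = true := by decide +kernel
      obtain ⟨h8, h9⟩ := key _ _ (allL_iff.1 h7 e he)
      rw [h.inj hv h8 (by rw [h9, e']), MonoidHom.comp_apply, e2 hρ hj] at h2
      exact (hr.ne T_ok (allL_iff.1 f_m e he) h2).elim

theorem j_inj : Function.Injective j := fun _ _ e => rj_inj hr hρ hj (congrArg r e)

theorem hfix (g : Cfsg.Spor.J4) (hg : ∀ n : K2, g⁻¹ * j (n * γ2 0 * n⁻¹) * g ∈ j.range) :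
    g ∈ j.range := by
  refine stab_le hr hρ hj g ?_
  have key : ∀ u, (∀ n : K2, (r (j (n * γ2 0 * n⁻¹))).val *ᵥ u = u) → T.rv 1 ⬝ᵥ u = 0 → u = 0 :=
    fun u hu h0 => Par.fix_zero T_ok rfl hr f_V1 f_V2 (fun d hd => by
      obtain ⟨e, -, rfl⟩ := List.mem_map.1 hd
      have := hu (ev (ext γ2) e.2.1)
      rwa [← ext_two_mul γ2 0, ← ev_singleton (ext γ2), ← ev_invW, mul_assoc, ← ev_app, ← ev_app,
        rj hr hρ hj] at this) (by simpa using h0)
  have h1 : ∀ n : K2, (r (j (n * γ2 0 * n⁻¹))).val *ᵥ (r g).val *ᵥ T.cv U0 = (r g).val *ᵥ T.cv U0 :=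
    fun n => by
      obtain ⟨m, e⟩ := hg n
      rw [mul_assoc, eq_inv_mul_iff_mul_eq] at e
      rw [mulVec_mulVec, ← Units.val_mul, ← map_mul, ← e, map_mul, Units.val_mul, ← mulVec_mulVec,
        stab_ge hr hρ hj]
  rcases z2 (T.rv 1 ⬝ᵥ (r g).val *ᵥ T.cv U0) with e | e
  · have := congrArg ((r g⁻¹).val *ᵥ ·) (key _ h1 e)
    simp only [mulVec_mulVec, ← Units.val_mul, ← map_mul, inv_mul_cancel, map_one, Units.val_one,
      one_mulVec, mulVec_zero] at this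
    exact (v_ne hr this).elim
  · exact sub_eq_zero.1 (key _ (fun n => by rw [mulVec_sub, h1, stab_ge hr hρ hj])
      (by rw [dotProduct_sub, e, p00 hr, sub_self]))

theorem tL : Commute (δ 2) (j (γ2 1)) ∧ Commute (δ 2) (j (γ2 10)) := by
  obtain ⟨φ, C⟩ := cert
  have h1 := hZ C hρ [1, 3, 0, 2] (by decide +kernel)
  have h2 := hZ C hρ [1, 21, 0, 20] (by decide +kernel)
  simp only [ev_cons, ev_nil, mul_one] at h1 h2
  rw [ext_two_mul _ 0, ext_two_mul_add_one _ 0, ext_two_mul _ 1, ext_two_mul_add_one _ 1] at h1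
  rw [ext_two_mul _ 0, ext_two_mul_add_one _ 0, ext_two_mul _ 10, ext_two_mul_add_one _ 10] at h2
  rw [hj, hj]
  have key : ∀ a b : Cfsg.Spor.J4, a⁻¹ * (b⁻¹ * (a * b)) = 1 → Commute a b := fun a b h => by
    rwa [inv_mul_eq_one, eq_inv_mul_iff_mul_eq, eq_comm] at h
  exact ⟨key _ _ h1, key _ _ h2⟩

theorem inner {α : MulAut Cfsg.Spor.J4} (hα : ∀ m, α (j m) = j m) : α = 1 := by
  have ht : α (δ 2) = δ 2 := by
    refine inner_step ((Units.coeHom _).comp r) (Par.add_self2 rfl) (v_ne hr) ?_ (fun e => ?_)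
      (L := {j (γ2 1), j (γ2 10)}) ?_ (fun u hu => ?_) (fun m hm hc => ?_) ?_
    · have := hD [4, 4] (by decide +kernel)
      rwa [ev_cons, ev_singleton, ext_two_mul δ 2] at this
    · have h1 := t_v hr
      rw [e, map_one, Units.val_one, one_mulVec] at h1
      have := p00 hr
      rw [h1, p01 hr] at this
      exact absurd this (by decide +kernel)
    · rintro l (rfl | rfl)
      exacts [⟨stab_ge hr hρ hj _, (tL hr hρ hj).1⟩, ⟨stab_ge hr hρ hj _, (tL hr hρ hj).2⟩]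
    · have key : ∀ u, (r (j (γ2 1))).val *ᵥ u = u → (r (j (γ2 10))).val *ᵥ u = u →
          T.rv 1 ⬝ᵥ u = 0 → T.rv 128 ⬝ᵥ u = 0 → u = 0 := fun u h1 h2 h3 h4 =>
        Par.fix_zero T_ok rfl hr f_L1 f_L2 (by
          rw [← ext_two_mul γ2, ← ev_singleton (ext γ2), rj hr hρ hj] at h1 h2
          simp only [ds2, List.map_cons, List.map_nil, List.forall_mem_cons]
          exact ⟨h1, h2, by simp⟩) (by simpa using ⟨h3, h4⟩)
      have h1 : (r (j (γ2 1))).val *ᵥ u = u := hu _ (.inl rfl)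
      have h2 : (r (j (γ2 10))).val *ᵥ u = u := hu _ (.inr rfl)
      have h3 : ∀ l, Commute (δ 2) (j l) → (r (j l)).val *ᵥ T.cv U1 = T.cv U1 := fun l hl => by
        rw [← t_v hr, mulVec_mulVec, ← Units.val_mul, ← map_mul, ← hl.eq, map_mul, Units.val_mul,
          ← mulVec_mulVec, stab_ge hr hρ hj]
      have h4 := h3 _ (tL hr hρ hj).1
      have h5 := h3 _ (tL hr hρ hj).2
      change u = 0 ∨ u = _ ∨ u = (r (δ 2)).val *ᵥ _ ∨ u = _ + (r (δ 2)).val *ᵥ _
      rw [t_v hr]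
      rcases z2 (T.rv 1 ⬝ᵥ u) with e | e <;> rcases z2 (T.rv 128 ⬝ᵥ u) with e' | e'
      · exact .inl (key u h1 h2 e e')
      · exact .inr (.inr (.inl (sub_eq_zero.1 (key _ (by rw [mulVec_sub, h1, h4])
          (by rw [mulVec_sub, h2, h5]) (by rw [dotProduct_sub, e, p01 hr, sub_self])
          (by rw [dotProduct_sub, e', p11 hr, sub_self])))))
      · exact .inr (.inl (sub_eq_zero.1 (key _ (by rw [mulVec_sub, h1, stab_ge hr hρ hj])
          (by rw [mulVec_sub, h2, stab_ge hr hρ hj]) (by rw [dotProduct_sub, e, p00 hr, sub_self])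
          (by rw [dotProduct_sub, e', p10 hr, sub_self]))))
      · exact .inr (.inr (.inr (sub_eq_zero.1 (key _
          (by rw [mulVec_sub, mulVec_add, h1, h4, stab_ge hr hρ hj])
          (by rw [mulVec_sub, mulVec_add, h2, h5, stab_ge hr hρ hj])
          (by rw [dotProduct_sub, dotProduct_add, e, p00 hr, p01 hr, add_zero, sub_self])
          (by rw [dotProduct_sub, dotProduct_add, e', p10 hr, p11 hr, zero_add, sub_self])))))
    · obtain ⟨k, rfl⟩ := stab_le hr hρ hj m hm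
      rw [centL ((hc _ (.inl rfl)).of_map (j_inj hr hρ hj)) ((hc _ (.inr rfl)).of_map (j_inj hr hρ hj)),
        map_one]
    · rintro l (rfl | rfl) <;> exact hα _
  have : α.toMonoidHom = MonoidHom.id _ := MonoidHom.eq_of_eqOn_dense (hgen hρ) (by
    rintro _ (⟨h, rfl⟩ | rfl)
    · obtain ⟨n, hn⟩ := sub hr hρ hj h
      rw [← hn]; exact hα n
    · exact ht)
  exact MulEquiv.ext fun g => DFunLike.congr_fun this g

theorem outer {β : MulAut K2} (hβ : ∀ i, β (γ2 i) = wg γ2 V.bW i) {α : MulAut Cfsg.Spor.J4}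
    (hα : ∀ m, α (j m) = j (β m)) : False := by
  have h1 := hr.one T_ok f_i
  rw [ev_app, ev_app, ev_app, ev_invW, ev_invW, xw, xw, ← e2 hρ hj, ← e2 hρ hj, e3, map_mul, map_inv,
    mul_inv_eq_one] at h1
  obtain ⟨m, hm⟩ := stab_le hr hρ hj _ (by rw [h1]; exact stab_ge hr hρ hj _)
  rw [← hm] at h1
  rw [rj_inj hr hρ hj h1] at hm
  have h2 := congrArg α hm
  rw [map_mul, map_mul, map_inv, hα, hα, map_ev_wg hβ, map_ev_wg hβ] at h2
  have h3 := Par.sand_sound T_ok hr f_X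
  rw [Par.matR_idR T_ok, Matrix.one_mul, ← rj hr hρ hj, h2, Par.matR_xor rfl (by decide +kernel)
    (by decide +kernel), Par.matR_idR T_ok] at h3
  have h4 := free_conj ((Units.coeHom _).comp r) h3 (f := T.rv ff) (u := T.cv UU)
    (by
      show _ ᵥ* (r _).val = _
      rw [rj hr hρ hj]; exact Par.ann_row T_ok hr f_f (i := 0) Nat.one_pos)
    (by
      show (r _).val *ᵥ _ = _
      rw [rj hr hρ hj]; exact Par.col_sound T_ok hr f_u)
  rw [pr hr f_fu] at h4
  exact absurd h4 (by decide +kernel)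

end

theorem out_eq : Nat.card (Cfsg.Out Cfsg.Spor.J4) = 1 := by
  obtain ⟨φ, C⟩ := cert
  obtain ⟨ρ, hρ⟩ := rho
  obtain ⟨j, hj⟩ := jmap C hρ
  obtain ⟨r, hr⟩ := exists_rep
  obtain ⟨β, hβ⟩ := V.beta
  haveI := finite
  refine card_out_eq_one fun α => ?_
  obtain ⟨g, h | h⟩ := V.aut_on (j_inj hr hρ hj) (hfix hr hρ hj) hβ α
  · exact ⟨g, inner hr hρ hj h⟩
  · exact (outer hr hρ hj hβ h).elim

end Cfsg.Agent.J4C.O
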