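import Cfsg.Agent.J4C.Lib5
import Cfsg.Agent.PM.Rep

set_option autoImplicit false
set_option linter.style.haveILetI false

/-! Fixed vectors of packed matrices; the last steps of the computation of automorphisms. -/

namespace Cfsg.Agent.PM

open Cfsg.Agent.CGT
open Matrix hiding ext

namespace Par

variable (T : Par)

/-- A row vector. -/
def rv (r : ℕ) : Fin T.n → ZMod T.p := fun j => dg T.B r j

/-- A column vector. -/
noncomputable def cv (U : List ℕ) : Fin T.n → ZMod T.p := fun i => dg T.B (nth 0 U i) 0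

/-- `V * u * X * v = Z`. -/
noncomputable def sand (As : List (List ℕ)) (m : ℕ) (V u X v Z : List ℕ) : Bool :=
  (inR u As.length && inR v As.length) && (T.allB [X] && (T.rowsB V && T.rowsB Z)) &&
    T.weq (As ++ [X]) m V (u ++ As.length :: v) Z

/-- `V * w = Z`. -/
noncomputable def annB (As : List (List ℕ)) (d : List ℕ × List ℕ × List ℕ) : Bool :=
  (T.rowsB d.1 && T.rowsB d.2.2) && T.weq As d.1.length d.1 d.2.1 d.2.2

/-- `D * C = 1`. -/
noncomputable def invB (D C : List ℕ) : Bool :=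
  (T.rowsB D && T.allB [C]) && T.weq [C] T.n D [0] T.idR

variable {T} {g : ℕ → T.M} {As : List (List ℕ)}

theorem sand_sound (h : T.ok = true) (hg : T.Lets g As) {m : ℕ} {V u X v Z : List ℕ}
    (hk : T.sand As m V u X v Z = true) :
    T.matR m T.n V * ev g u * T.matR T.n T.n X * ev g v = T.matR m T.n Z := by
  simp only [sand, Bool.and_eq_true, inR, allL_iff, Nat.blt_eq] at hk
  obtain ⟨⟨⟨h1, h2⟩, h3, h4, h5⟩, h6⟩ := hk
  have H : T.Lets (fun a => if a < As.length then g a else T.matR T.n T.n X) (As ++ [X]) := by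
    intro a ha
    by_cases hl : a < As.length
    · have e : nth [] (As ++ [X]) a = nth [] As a := by
        rw [nth_eq, nth_eq, List.getD_append _ _ _ _ hl]
      rw [e]
      simp only [if_pos hl]
      exact hg a hl
    · have e : nth [] (As ++ [X]) a = X := by
        have : a = As.length := by simp at ha; omega
        rw [nth_eq, this, List.getD_append_right _ _ _ _ le_rfl]; simp
      rw [e]
      simp only [if_neg hl]
      have := lets_mat h h3 0 (by simp)
      exact ⟨this.1, this.2.1, trivial⟩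
  have := weq_sound h H (rowsB_sound h h4) (rowsB_sound h h5) h6
  rw [ev_append, ev_cons, if_neg (lt_irrefl _), ev_congr (g' := g) fun a ha => if_pos (h1 a ha),
    ev_congr (g' := g) fun a ha => if_pos (h2 a ha)] at this
  rw [← this]
  simp only [Matrix.mul_assoc]

theorem row_cv (h : T.ok = true) {m : ℕ} (A : Matrix (Fin m) (Fin T.n) (ZMod T.p)) {U Z : List ℕ}
    (e : A * T.matR T.n T.n U = T.matR m T.n Z) (i : Fin m) :
    (A *ᵥ T.cv U) i = dg T.B (nth 0 Z i) 0 :=
  congrFun (congrFun e i) ⟨0, (ok_iff h).2.1⟩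

theorem col_sound (h : T.ok = true) (hg : T.Lets g As) {w U Z : List ℕ}
    (hk : T.sand As T.n T.idR w U [] Z = true) : ev g w *ᵥ T.cv U = T.cv Z := by
  have := sand_sound h hg hk
  rw [matR_idR h, Matrix.one_mul, ev_nil, Matrix.mul_one] at this
  exact funext (row_cv h _ this)

theorem pair_sound (h : T.ok = true) (hg : T.Lets g As) {r c : ℕ} {w U : List ℕ}
    (hk : T.sand As 1 [r] w U [] [c] = true) : T.rv r ⬝ᵥ ev g w *ᵥ T.cv U = dg T.B c 0 := by
  have := sand_sound h hg hk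
  rw [ev_nil, Matrix.mul_one] at this
  have h1 := row_cv h _ this 0
  rw [← Matrix.mulVec_mulVec] at h1
  exact h1

theorem rv_xor (hp : T.p = 2) (a b : ℕ) : T.rv (Nat.xor a b) = T.rv a + T.rv b := by
  funext j
  show ((dg (2 ^ T.w) (a ^^^ b) j : ℕ) : ZMod T.p) = (dg _ a j : ℕ) + (dg _ b j : ℕ)
  rw [← Nat.cast_add, ZMod.natCast_eq_natCast_iff', hp, ← Nat.xor_mod_two_eq, dg, dg, dg, ← pow_mul,
    Nat.xor_div_two_pow, Nat.xor_mod_two_pow]

theorem add_self2 (hp : T.p = 2) (x : ZMod T.p) : x + x = 0 := by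
  rw [← two_mul, show (2 : ZMod T.p) = (T.p : ℕ) by rw [hp]; rfl, ZMod.natCast_self, zero_mul]

theorem ann_row (h : T.ok = true) (hg : T.Lets g As) {d : List ℕ × List ℕ × List ℕ}
    (hk : T.annB As d = true) {i : ℕ} (hi : i < d.1.length) :
    T.rv (nth 0 d.1 i) ᵥ* ev g d.2.1 = T.rv (nth 0 d.2.2 i) := by
  simp only [annB, Bool.and_eq_true] at hk
  exact congrFun (weq_sound h hg (rowsB_sound h hk.1.1) (rowsB_sound h hk.1.2) hk.2) ⟨i, hi⟩

theorem ann_sound (h : T.ok = true) (hp : T.p = 2) (hg : T.Lets g As)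
    {d : List ℕ × List ℕ × List ℕ} (hk : T.annB As d = true) {u : Fin T.n → ZMod T.p}
    (hu : ev g d.2.1 *ᵥ u = u) : ∀ r ∈ List.zipWith Nat.xor d.1 d.2.2, T.rv r ⬝ᵥ u = 0 := by
  intro r hr
  obtain ⟨i, hi, rfl⟩ := List.mem_iff_getElem.1 hr
  rw [List.length_zipWith, lt_min_iff] at hi
  have := ann_row h hg hk hi.1
  rw [nth_eq, nth_eq, List.getD_eq_getElem _ _ hi.1, List.getD_eq_getElem _ _ hi.2] at this
  rw [List.getElem_zipWith, rv_xor hp, add_dotProduct, ← this, ← Matrix.dotProduct_mulVec, hu,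
    add_self2 hp]

theorem inv_sound (h : T.ok = true) {D C : List ℕ} (hk : T.invB D C = true)
    {u : Fin T.n → ZMod T.p} (hu : ∀ r ∈ C, T.rv r ⬝ᵥ u = 0) : u = 0 := by
  simp only [invB, Bool.and_eq_true] at hk
  have H := lets_mat h hk.1.2
  have h1 := weq_sound h H (rowsB_sound h hk.1.1) (rows_idR h) hk.2
  rw [matR_idR h, ev_singleton] at h1
  have h2 : T.matR T.n T.n (nth [] [C] 0) *ᵥ u = 0 := funext fun i =>
    hu _ (FT.nth_mem 0 ((H 0 (by simp)).2.1.symm ▸ i.2 : (i : ℕ) < C.length))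
  rw [← Matrix.one_mulVec u, ← h1, ← Matrix.mulVec_mulVec, h2, Matrix.mulVec_zero]

/-- The common fixed vectors are determined by a few coordinates. -/
theorem fix_zero (h : T.ok = true) (hp : T.p = 2) (hg : T.Lets g As)
    {ds : List (List ℕ × List ℕ × List ℕ)} (h1 : allL ds (T.annB As) = true) {D cs : List ℕ}
    (h2 : T.invB D (cs ++ ds.flatMap fun d => List.zipWith Nat.xor d.1 d.2.2) = true)
    {u : Fin T.n → ZMod T.p} (hu : ∀ d ∈ ds, ev g d.2.1 *ᵥ u = u)
    (hc : ∀ r ∈ cs, T.rv r ⬝ᵥ u = 0) : u = 0 :=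
  inv_sound h h2 fun r hr => (List.mem_append.1 hr).elim (hc r) fun hr => by
    obtain ⟨d, hd, hr⟩ := List.mem_flatMap.1 hr
    exact ann_sound h hp hg (allL_iff.1 h1 d hd) (hu d hd) r hr

theorem matR_xor (hp : T.p = 2) {A B : List ℕ} (hA : A.length = T.n) (hB : B.length = T.n) :
    T.matR T.n T.n (List.zipWith Nat.xor A B) = T.matR T.n T.n A + T.matR T.n T.n B := by
  ext i j
  have := congrFun (rv_xor hp (nth 0 A i) (nth 0 B i)) j
  refine Eq.trans ?_ this
  simp only [matR, rv, of_apply, nth_eq]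
  rw [List.getD_eq_getElem _ _ (by simp [hA, hB]), List.getD_eq_getElem _ _ (by simp [hA]),
    List.getD_eq_getElem _ _ (by simp [hB]), List.getElem_zipWith]

end Par

end Cfsg.Agent.PM

namespace Cfsg.Agent.CGT

open Matrix hiding ext

namespace Dce

variable {K Γ A : Type*} [Group K] [Group Γ] [CommGroup A] (D : Dce) (X : Ctx K Γ A)

/-- The word of a node. -/
noncomputable def nw (fuel : ℕ) : ℕ → List ℕ :=
  Nat.rec (fun _ => []) (fun _ ih n => (fun f : Fct => Bool.rec []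
    (app (invW (Bool.rec (sh f.p) (app (sh f.p) (0 :: sh f.q)) f.j)) (ih f.a)) (Nat.blt f.a n))
      (D.F.get (nth 0 D.df n))) fuel

theorem W_nw {fuel n : ℕ} (h : n ≤ fuel) : D.W X n = ev (ext (zt X.σ X.γ X.z)) (D.nw fuel n) := by
  induction fuel generalizing n with
  | zero => rw [Nat.le_zero.1 h, W_zero]; rfl
  | succ m ih =>
    rw [W]
    show _ = ev _ (Bool.rec _ _ (Nat.blt _ n))
    generalize D.F.get (nth 0 D.df n) = f
    split_ifs with h1
    · rw [Nat.blt_eq.mpr h1, ih (by omega)]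
      show _ = ev _ (app _ _)
      rw [ev_app, ev_invW, Ctx.g]
      congr 2
      cases f.j
      · exact (ev_sh _ _ _ _).symm
      · show _ = ev _ (app _ _)
        rw [ev_app, ev_cons, ev_sh, ev_sh, ext_zt_zero, ← mul_assoc]; rfl
    · rw [Bool.eq_false_iff.2 fun e => h1 (Nat.blt_eq.mp e)]; rfl

end Dce

variable {G ι k : Type*} [Group G] [Fintype ι] [DecidableEq ι] [CommRing k]

theorem inner_step (R : G →* Matrix ι ι k) (h2 : ∀ x : k, x + x = 0) {v : ι → k} (hv : v ≠ 0)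
    {t : G} (ht : t * t = 1) (ht1 : t ≠ 1) {L : Set G} (hL : ∀ l ∈ L, R l *ᵥ v = v ∧ Commute t l)
    (hfix : ∀ u, (∀ l ∈ L, R l *ᵥ u = u) → u = 0 ∨ u = v ∨ u = R t *ᵥ v ∨ u = v + R t *ᵥ v)
    (hC : ∀ m, R m *ᵥ v = v → (∀ l ∈ L, Commute m l) → m = 1) {α : MulAut G}
    (hα : ∀ l ∈ L, α l = l) : α t = t := by
  have c1 : ∀ l ∈ L, Commute (α t) l := fun l hl => hα l hl ▸ (hL l hl).2.map α
  have e1 : α t * α t = 1 := by rw [← map_mul, ht, map_one]
  have e2 : α t ≠ 1 := fun e => ht1 (α.injective (e.trans (map_one α).symm))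
  generalize α t = s at c1 e1 e2
  have mm : ∀ a b u, R a *ᵥ R b *ᵥ u = R (a * b) *ᵥ u := fun a b u => by
    rw [mulVec_mulVec, map_mul]
  have e3 : R s *ᵥ R s *ᵥ v = v := by rw [mm, e1, map_one, one_mulVec]
  have e4 : R t *ᵥ R t *ᵥ v = v := by rw [mm, ht, map_one, one_mulVec]
  rcases hfix (R s *ᵥ v) (fun l hl => by rw [mm, ← (c1 l hl).eq, ← mm, (hL l hl).1]) with
    e | e | e | e
  · rw [e, mulVec_zero] at e3
    exact (hv e3.symm).elim
  · exact (e2 (hC s e c1)).elim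
  · have := hC (t * s) (by rw [← mm, e, e4]) fun l hl => (hL l hl).2.mul_left (c1 l hl)
    exact mul_left_cancel (this.trans ht.symm)
  · rw [e, mulVec_add, e, add_assoc, add_eq_left] at e3
    have e5 : R s *ᵥ R t *ᵥ v = R t *ᵥ v :=
      add_left_cancel (e3.trans (funext fun i => (h2 _).symm))
    have := hC (t * (s * t)) (by rw [← mm, ← mm, e5, e4]) fun l hl =>
      (hL l hl).2.mul_left ((c1 l hl).mul_left (hL l hl).2)
    exact (e2 (mul_right_cancel ((mul_left_cancel (this.trans (by rw [one_mul, ht] :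
      t * (1 * t) = 1).symm))))).elim

theorem free_conj (R : G →* Matrix ι ι k) {a g : G} {X : Matrix ι ι k}
    (hX : R (g * a * g⁻¹) * X * R (g * a * g⁻¹) = X + 1) {f u : ι → k} (hf : f ᵥ* R a = f)
    (hu : R a *ᵥ u = u) : f ⬝ᵥ u = 0 := by
  have h1 : R a * (R g⁻¹ * X * R g) * R a = R g⁻¹ * X * R g + 1 := by
    have h2 : R g⁻¹ * R g = 1 := by rw [← map_mul, inv_mul_cancel, map_one]
    calc _ = R g⁻¹ * (R (g * a * g⁻¹) * X * R (g * a * g⁻¹)) * R g := by
          simp only [← mul_assoc, ← map_mul, inv_mul_cancel, one_mul]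
          simp only [mul_assoc, ← map_mul, inv_mul_cancel, mul_one]
      _ = _ := by rw [hX, mul_add, add_mul, mul_one, h2]
  have h2 := congrArg (fun M => f ⬝ᵥ M *ᵥ u) h1
  simp only [add_mulVec, one_mulVec, dotProduct_add] at h2
  rw [← mulVec_mulVec, hu, ← mulVec_mulVec, dotProduct_mulVec, hf] at h2
  exact left_eq_add.1 h2

end Cfsg.Agent.CGT

namespace Cfsg.Agent.J4C

open Equiv Cfsg.Agent.CGT

variable {M K : Type*} [Group M] [Group K] {π : M →* K} {σ : K →* M} {φ : M →* Perm ℕ}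

theorem Aff.injective (h : Aff π σ φ) {B : List ℕ} (hB : IsBase φ ⊤ B)
    (hO : ∀ b ∈ B, ∃ v ∈ π.ker, φ v 0 = b) {u : K} (hu : u ^ 8 = 1) {X : Type*} [Group X]
    {f : M →* X} (hf : ∀ v ∈ π.ker, φ (σ u) (φ v 0) = φ v 0 → f v = 1 → v = 1) :
    Function.Injective f := by
  have h1 : ∀ v ∈ π.ker ⊓ f.ker, v = 1 := by
    by_contra hn
    push Not at hn
    obtain ⟨a, ha, ha1⟩ := hn
    have c := fun a (ha : a ∈ π.ker ⊓ f.ker) b (hb : b ∈ π.ker ⊓ f.ker) => h.comm a ha.1 b hb.1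
    have e := fun a (ha : a ∈ π.ker ⊓ f.ker) => h.sq a ha.1
    have n := fun g a (ha : a ∈ π.ker ⊓ f.ker) => Subgroup.Normal.conj_mem inferInstance a ha g
    obtain ⟨b, hb, b1, b2⟩ := fix_step c e (n (σ u ^ 1)) (by
      rw [← pow_add]
      refine fix_step c e (n (σ u ^ 2)) ?_
      rw [← pow_add]
      refine fix_step c e (n (σ u ^ 4)) ⟨a, ha, ha1, ?_⟩
      rw [← pow_add, ← map_pow, hu, map_one]
      exact Commute.one_left _)
    rw [pow_one] at b2
    exact b1 (hf b hb.1 (by simpa [h.sec] using h.fixes hb.1 b2.eq) hb.2)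
  refine (injective_iff_map_eq_one f).2 fun m hm => h1 m ⟨?_, hm⟩
  have h2 : σ (π m) = 1 := hB _ trivial fun b hb => by
    obtain ⟨v, hv, rfl⟩ := hO b hb
    refine h.fixes hv ?_
    have := h1 (m * v * m⁻¹ * v⁻¹) ⟨π.ker.mul_mem (π.normal_ker.conj_mem v hv m) (π.ker.inv_mem hv),
      by simp [hm]⟩
    rwa [mul_inv_eq_one, mul_inv_eq_iff_eq_mul] at this
  show π m = 1
  rw [← h.sec (π m), h2, map_one]

end Cfsg.Agent.J4C
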